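import Groth.Agent.RefHullLib.Coherent
import Groth.Agent.RefHullLib.EvalStalk

/-!
# An isomorphism of stalks of finitely presented modules spreads to a neighbourhood
-/

set_option autoImplicit false
set_option linter.style.haveILetI false
universe u

open CategoryTheory CategoryTheory.Limits AlgebraicGeometry TopologicalSpace Opposite
open RefHullLib

noncomputable section

namespace StalkSpreadLib

variable {X : Scheme.{u}} {A B : X.Modules}

theorem app_smul {V : X.Opens} (g : Γ(RefHull.homSh A B, V)) (r : Γ(X, V)) (a : Γ(A, V)) :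
    app g (r • a) = r • app g a :=
  germ_ext B _ _ fun y hy => by
    rw [germ_app, Mero.germ_smul, Mero.germ_smul, map_smul, germ_app]

theorem app_add {V : X.Opens} (g : Γ(RefHull.homSh A B, V)) (a b : Γ(A, V)) :
    app g (a + b) = app g a + app g b :=
  germ_ext B _ _ fun y hy => by
    rw [germ_app, map_add, map_add, map_add, germ_app, germ_app]

theorem app_zero {V : X.Opens} (g : Γ(RefHull.homSh A B, V)) : app g (0 : Γ(A, V)) = 0 := by
  have h := app_add g 0 0
  rw [add_zero] at h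
  exact left_eq_add.mp h

/-- The morphism of restricted modules given by a section of the sheaf Hom. -/
def secHom {U : X.Opens} (g : Γ(RefHull.homSh A B, U)) : A.restrict U.ι ⟶ B.restrict U.ι where
  val := PresheafOfModules.homMk
    { app := fun W => AddCommGrpCat.ofHom
        { toFun := fun a => app ((RefHull.homSh A B).presheaf.map (homOfLE (U.ι_image_le W.unop)).op g)
            (show Γ(A, U.ι ''ᵁ W.unop) from a)
          map_zero' := app_zero _
          map_add' := fun a b => app_add _ _ _ }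
      naturality := fun W W' i => by
        ext a
        refine germ_ext B _ _ fun y hy => ?_
        refine (germ_app _ _ y hy).trans ?_
        refine Eq.trans ?_ (TopCat.Presheaf.germ_res_apply B.presheaf _ y hy _).symm
        refine Eq.trans ?_ (germ_app _ _ y _).symm
        exact congrArg _ (TopCat.Presheaf.germ_res_apply A.presheaf _ y hy _) }
    fun W r a => app_smul _ _ _

theorem germ_secHom {U : X.Opens} (g : Γ(RefHull.homSh A B, U)) (W : (U : Scheme.{u}).Opens)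
    (a : Γ(A, U.ι ''ᵁ W)) (y : X) (hy : y ∈ U.ι ''ᵁ W) :
    B.presheaf.germ (U.ι ''ᵁ W) y hy (show Γ(B, U.ι ''ᵁ W) from (secHom g).app W a) =
      g.1 ⟨y, U.ι_image_le W hy⟩ (A.presheaf.germ (U.ι ''ᵁ W) y hy a) :=
  germ_app _ _ y hy

/-- Mutually inverse sections of the sheaf Hom give an isomorphism. -/
def isoOfSec {U : X.Opens} (g : Γ(RefHull.homSh A B, U)) (g' : Γ(RefHull.homSh B A, U))
    (h : ∀ y : U, ∀ v, g'.1 y (g.1 y v) = v) (h' : ∀ y : U, ∀ v, g.1 y (g'.1 y v) = v) :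
    A.restrict U.ι ≅ B.restrict U.ι where
  hom := secHom g
  inv := secHom g'
  hom_inv_id := by
    ext W a
    refine germ_ext A _ _ fun y hy => ?_
    exact (germ_secHom g' W _ y hy).trans ((congrArg _ (germ_secHom g W a y hy)).trans (h _ _))
  inv_hom_id := by
    ext W a
    refine germ_ext B _ _ fun y hy => ?_
    exact (germ_secHom g W _ y hy).trans ((congrArg _ (germ_secHom g' W a y hy)).trans (h' _ _))

/-- Composition of sections of the sheaf Hom. -/
theorem exists_comp {U : X.Opens} (g : Γ(RefHull.homSh A B, U)) (g' : Γ(RefHull.homSh B A, U)) :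
    ∃ c : Γ(RefHull.homSh A A, U), ∀ y : U, c.1 y = (g'.1 y).comp (g.1 y) := by
  refine ⟨⟨fun y => (g'.1 y).comp (g.1 y), fun V i m x => ?_⟩, fun y => rfl⟩
  refine ⟨V, x.2, 𝟙 V, app ((RefHull.homSh B A).presheaf.map i.op g')
    (app ((RefHull.homSh A B).presheaf.map i.op g) m), fun y => ?_⟩
  refine Eq.trans ?_ (germ_app _ _ y.1 y.2).symm
  exact congrArg (g'.1 ⟨y.1, i.le y.2⟩) (germ_app ((RefHull.homSh A B).presheaf.map i.op g) m y.1 y.2).symm

theorem exists_nhd_inverse [IsLocallyNoetherian X] (hA : Coh.IsCoh A) {x : X} {U : X.Opens} (hx : x ∈ U)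
    (g : Γ(RefHull.homSh A B, U)) (g' : Γ(RefHull.homSh B A, U))
    (hinv : (g'.1 ⟨x, hx⟩).comp (g.1 ⟨x, hx⟩) = LinearMap.id) :
    ∃ (W : X.Opens) (hW : W ≤ U), x ∈ W ∧ ∀ y : W, ∀ v, g'.1 ⟨y.1, hW y.2⟩ (g.1 ⟨y.1, hW y.2⟩ v) = v := by
  obtain ⟨c, hc⟩ := exists_comp g g'
  let idsec : Γ(RefHull.homSh A A, U) := ⟨fun y => LinearMap.id, fun V i m x => ⟨V, x.2, 𝟙 V, m, fun y => rfl⟩⟩
  have h : (RefHull.homSh A A).presheaf.germ U x hx c = (RefHull.homSh A A).presheaf.germ U x hx idsec := by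
    refine evalStalk_injective (RefHullLib.isFT_of_isFP (QCohLib.isFP_of_isCoh A hA)) x ?_
    rw [RefHull.evalStalk_germ, RefHull.evalStalk_germ, hc, hinv]
  obtain ⟨W, hxW, i₁, i₂, hW⟩ := TopCat.Presheaf.germ_eq _ x hx hx c idsec h
  refine ⟨W, i₁.le, hxW, fun y v => ?_⟩
  have h2 := congrFun (congrArg Subtype.val hW) y
  have h3 : c.1 ⟨y.1, i₁.le y.2⟩ = LinearMap.id := h2
  rw [hc] at h3
  exact LinearMap.congr_fun h3 v

/-- An isomorphism of stalks of coherent modules spreads to a neighbourhood. -/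
theorem exists_iso_nhd [IsLocallyNoetherian X] (hA : Coh.IsCoh A) (hB : Coh.IsCoh B) (x : X)
    (e : A.presheaf.stalk x ≃ₗ[X.presheaf.stalk x] B.presheaf.stalk x) (U₀ : X.Opens) (hx₀ : x ∈ U₀) :
    ∃ U : X.Opens, x ∈ U ∧ U ≤ U₀ ∧ Nonempty (A.restrict U.ι ≅ B.restrict U.ι) := by
  obtain ⟨θ, hθ⟩ := RefHullLib.evalStalk_surjective (G := B) (QCohLib.isFP_of_isCoh A hA) x e.toLinearMap
  obtain ⟨θ', hθ'⟩ := RefHullLib.evalStalk_surjective (G := A) (QCohLib.isFP_of_isCoh B hB) x e.symm.toLinearMap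
  obtain ⟨U₁, h₁, g, rfl⟩ := TopCat.Presheaf.exists_germ_eq _ θ
  obtain ⟨U₂, h₂, g', rfl⟩ := TopCat.Presheaf.exists_germ_eq _ θ'
  rw [RefHull.evalStalk_germ] at hθ hθ'
  let U := U₁ ⊓ U₂ ⊓ U₀
  have hxU : x ∈ U := ⟨⟨h₁, h₂⟩, hx₀⟩
  let a : Γ(RefHull.homSh A B, U) :=
    (RefHull.homSh A B).presheaf.map (homOfLE (inf_le_left.trans inf_le_left : U ≤ U₁)).op g
  let a' : Γ(RefHull.homSh B A, U) :=
    (RefHull.homSh B A).presheaf.map (homOfLE (inf_le_left.trans inf_le_right : U ≤ U₂)).op g'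
  have ha : a.1 ⟨x, hxU⟩ = e.toLinearMap := hθ
  have ha' : a'.1 ⟨x, hxU⟩ = e.symm.toLinearMap := hθ'
  obtain ⟨W₁, hW₁, hx₁, hl⟩ := exists_nhd_inverse hA hxU a a' (by rw [ha, ha']; ext v; simp)
  obtain ⟨W₂, hW₂, hx₂, hr⟩ := exists_nhd_inverse hB hxU a' a (by rw [ha, ha']; ext v; simp)
  have hle : W₁ ⊓ W₂ ≤ U := inf_le_left.trans hW₁
  exact ⟨W₁ ⊓ W₂, ⟨hx₁, hx₂⟩, hle.trans inf_le_right,
    ⟨isoOfSec ((RefHull.homSh A B).presheaf.map (homOfLE hle).op a)
      ((RefHull.homSh B A).presheaf.map (homOfLE hle).op a')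
      (fun y v => hl ⟨y.1, y.2.1⟩ v) (fun y v => hr ⟨y.1, y.2.2⟩ v)⟩⟩

end StalkSpreadLib

end
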